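import Mathlib.Algebra.MvPolynomial.Rename
import Mathlib.Algebra.MvPolynomial.NoZeroDivisors
import Mathlib.Algebra.Polynomial.Taylor
import Mathlib.Algebra.Polynomial.Expand
import Mathlib.LinearAlgebra.Basis.VectorSpace
import Mathlib.RingTheory.MvPolynomial.Basic
import Mathlib.Algebra.CharP.Lemmas
import Mathlib.Data.Finsupp.Basic
import Mathlib.Tactic

/-!
# A hypersurface subgroup of a vector group is cut out by an additive polynomial
-/

set_option autoImplicit false

universe u

noncomputable section

namespace Groth.Agent.PPoly21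

open MvPolynomial

variable {k : Type u} [Field k] {σ : Type} {τ : Type}

/-- A functional on monomials of the separated variables. -/
def pair (φ : MvPolynomial σ k →ₗ[k] k) (ψ : MvPolynomial τ k →ₗ[k] k) :
    MvPolynomial (σ ⊕ τ) k →ₗ[k] k :=
  (basisMonomials (σ ⊕ τ) k).constr k fun m =>
    φ (monomial (m.comapDomain Sum.inl Sum.inl_injective.injOn) 1) *
      ψ (monomial (m.comapDomain Sum.inr Sum.inr_injective.injOn) 1)

theorem pair_monomial (φ : MvPolynomial σ k →ₗ[k] k) (ψ : MvPolynomial τ k →ₗ[k] k) (m : σ ⊕ τ →₀ ℕ) :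
    pair φ ψ (monomial m 1) = φ (monomial (m.comapDomain Sum.inl Sum.inl_injective.injOn) 1) *
      ψ (monomial (m.comapDomain Sum.inr Sum.inr_injective.injOn) 1) := by
  rw [pair, ← Module.Basis.constr_basis (basisMonomials (σ ⊕ τ) k) k (fun m => φ (monomial (m.comapDomain Sum.inl Sum.inl_injective.injOn) 1) * ψ (monomial (m.comapDomain Sum.inr Sum.inr_injective.injOn) 1)) m]
  rw [coe_basisMonomials]

theorem pair_mul (φ : MvPolynomial σ k →ₗ[k] k) (ψ : MvPolynomial τ k →ₗ[k] k)
    (P : MvPolynomial σ k) (Q : MvPolynomial τ k) :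
    pair φ ψ (rename Sum.inl P * rename Sum.inr Q) = φ P * ψ Q := by
  induction P using MvPolynomial.induction_on' with
  | add P P' hP hP' => rw [map_add, add_mul, map_add, hP, hP', map_add, add_mul]
  | monomial a c =>
    induction Q using MvPolynomial.induction_on' with
    | add Q Q' hQ hQ' => rw [map_add, mul_add, map_add, hQ, hQ', map_add, mul_add]
    | monomial b d =>
      have e : rename Sum.inl (monomial a c) * rename Sum.inr (monomial b d) =
          (c * d) • (monomial (a.mapDomain Sum.inl + b.mapDomain Sum.inr) (1 : k) : MvPolynomial (σ ⊕ τ) k) := by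
        rw [rename_monomial, rename_monomial, monomial_mul, smul_monomial, smul_eq_mul, mul_one]
      have ea : (a.mapDomain Sum.inl + b.mapDomain (Sum.inr : τ → σ ⊕ τ)).comapDomain Sum.inl
          Sum.inl_injective.injOn = a := by
        ext i
        rw [Finsupp.comapDomain_apply, Finsupp.add_apply, Finsupp.mapDomain_apply Sum.inl_injective,
          Finsupp.mapDomain_notin_range _ _ (by simp), add_zero]
      have eb : (a.mapDomain (Sum.inl : σ → σ ⊕ τ) + b.mapDomain Sum.inr).comapDomain Sum.inr
          Sum.inr_injective.injOn = b := by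
        ext i
        rw [Finsupp.comapDomain_apply, Finsupp.add_apply, Finsupp.mapDomain_apply Sum.inr_injective,
          Finsupp.mapDomain_notin_range _ _ (by simp), zero_add]
      have hc : (monomial a c : MvPolynomial σ k) = c • monomial a 1 := by rw [smul_monomial, smul_eq_mul, mul_one]
      have hd : (monomial b d : MvPolynomial τ k) = d • monomial b 1 := by rw [smul_monomial, smul_eq_mul, mul_one]
      rw [e, map_smul, pair_monomial, ea, eb, hc, hd, map_smul, map_smul, smul_eq_mul, smul_eq_mul, smul_eq_mul]
      ring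

theorem pair_eq_zero_of_mem (φ : MvPolynomial σ k →ₗ[k] k) (ψ : MvPolynomial τ k →ₗ[k] k)
    {f : MvPolynomial σ k} {g : MvPolynomial τ k} (hφ : ∀ r, φ (r * f) = 0) (hψ : ∀ r, ψ (r * g) = 0)
    {G : MvPolynomial (σ ⊕ τ) k} (hG : G ∈ Ideal.span {rename Sum.inl f, rename Sum.inr g}) :
    pair φ ψ G = 0 := by
  obtain ⟨a, b, rfl⟩ := Ideal.mem_span_pair.1 hG
  clear hG
  rw [map_add]
  have h1 : pair φ ψ (a * rename Sum.inl f) = 0 := by
    induction a using MvPolynomial.induction_on' with
    | add a a' h h' => rw [add_mul, map_add, h, h', add_zero]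
    | monomial m c =>
      obtain ⟨⟨P, Q⟩, rfl⟩ : ∃ pq : (σ →₀ ℕ) × (τ →₀ ℕ), pq.1.mapDomain Sum.inl + pq.2.mapDomain Sum.inr = m :=
        ⟨Finsupp.sumFinsuppEquivProdFinsupp m, by
          ext (i | i)
          · rw [Finsupp.add_apply, Finsupp.mapDomain_apply Sum.inl_injective, Finsupp.mapDomain_notin_range _ _ (by simp), add_zero]
            rfl
          · rw [Finsupp.add_apply, Finsupp.mapDomain_apply Sum.inr_injective, Finsupp.mapDomain_notin_range _ _ (by simp), zero_add]
            rfl⟩
      rw [show monomial (P.mapDomain Sum.inl + Q.mapDomain Sum.inr) c * rename Sum.inl f =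
          rename Sum.inl (monomial P c * f) * rename Sum.inr (monomial Q 1) by
        rw [map_mul, rename_monomial, rename_monomial, mul_right_comm, monomial_mul, mul_one],
        pair_mul, hφ, zero_mul]
  have h2 : pair φ ψ (b * rename Sum.inr g) = 0 := by
    induction b using MvPolynomial.induction_on' with
    | add a a' h h' => rw [add_mul, map_add, h, h', add_zero]
    | monomial m c =>
      obtain ⟨⟨P, Q⟩, rfl⟩ : ∃ pq : (σ →₀ ℕ) × (τ →₀ ℕ), pq.1.mapDomain Sum.inl + pq.2.mapDomain Sum.inr = m :=
        ⟨Finsupp.sumFinsuppEquivProdFinsupp m, by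
          ext (i | i)
          · rw [Finsupp.add_apply, Finsupp.mapDomain_apply Sum.inl_injective, Finsupp.mapDomain_notin_range _ _ (by simp), add_zero]
            rfl
          · rw [Finsupp.add_apply, Finsupp.mapDomain_apply Sum.inr_injective, Finsupp.mapDomain_notin_range _ _ (by simp), zero_add]
            rfl⟩
      rw [show monomial (P.mapDomain Sum.inl + Q.mapDomain Sum.inr) c * rename Sum.inr g =
          rename Sum.inl (monomial P c) * rename Sum.inr (monomial Q 1 * g) by
        rw [map_mul, rename_monomial, rename_monomial, ← mul_assoc, monomial_mul, mul_one],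
        pair_mul, hψ, mul_zero]
  rw [h1, h2, add_zero]

open Classical in
/-- A functional killing the multiples of `f` and dual to a monomial of small degree. -/
theorem exists_functional {f : MvPolynomial σ k} (hf : f ≠ 0) {a : σ →₀ ℕ}
    (ha : (a.sum fun _ e => e) < f.totalDegree) :
    ∃ φ : MvPolynomial σ k →ₗ[k] k, (∀ r, φ (r * f) = 0) ∧ φ (monomial a 1) = 1 ∧
      ∀ b : σ →₀ ℕ, b ≠ a → (b.sum fun _ e => e) < f.totalDegree → φ (monomial b 1) = 0 := by
  let R : Submodule k (MvPolynomial σ k) :=
    restrictSupport k {b | b ≠ a ∧ (b.sum fun _ e => e) < f.totalDegree}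
  let S : Submodule k (MvPolynomial σ k) := LinearMap.range (LinearMap.mulRight k f)
  have hnot : monomial a (1 : k) ∉ S ⊔ R := by
    intro h
    obtain ⟨x, ⟨g, rfl⟩, y, hy, e⟩ := Submodule.mem_sup.1 h
    rw [mem_restrictSupport_iff] at hy
    have hdeg : ∀ m ∈ (g * f).support, (m.sum fun _ e => e) < f.totalDegree := by
      intro m hm
      have he : g * f = monomial a 1 - y := eq_sub_of_add_eq e
      rw [he] at hm
      rcases Finset.mem_union.1 (support_sub σ _ _ hm) with h1 | h1
      · rwa [Finset.mem_singleton.1 (support_monomial_subset h1)]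
      · exact (hy h1).2
    have hg : g = 0 := by
      by_contra hg
      have hpos : 0 < f.totalDegree := lt_of_le_of_lt (Nat.zero_le _) ha
      have h1 : (g * f).totalDegree < f.totalDegree := by
        rw [totalDegree, Finset.sup_lt_iff hpos]
        exact hdeg
      rw [totalDegree_mul_of_isDomain hg hf] at h1
      omega
    subst hg
    simp only [LinearMap.mulRight_apply, zero_mul, zero_add] at e
    subst e
    exact (hy (Finset.mem_coe.2 (by rw [mem_support_iff, coeff_monomial, if_pos rfl]; exact one_ne_zero))).1 rfl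
  obtain ⟨φ, hφa, hφ⟩ := Submodule.exists_le_ker_of_notMem hnot
  refine ⟨(φ (monomial a 1))⁻¹ • φ, fun r => ?_, inv_mul_cancel₀ hφa, fun b hb hbd => ?_⟩
  · rw [LinearMap.smul_apply, show φ (r * f) = 0 from hφ (Submodule.mem_sup_left ⟨r, rfl⟩), smul_zero]
  · rw [LinearMap.smul_apply, show φ (monomial b 1) = 0 from
      hφ (Submodule.mem_sup_right ((mem_restrictSupport_iff _).2 fun m hm => ?_)), smul_zero]
    rw [Finset.mem_singleton.1 (support_monomial_subset hm)]
    exact ⟨hb, hbd⟩

/-- No nonzero element of the ideal has both partial degrees small. -/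
theorem eq_zero_of_mem_span {f : MvPolynomial σ k} (hf : f ≠ 0) {g : MvPolynomial τ k} (hg : g ≠ 0)
    {G : MvPolynomial (σ ⊕ τ) k} (hG : G ∈ Ideal.span {rename Sum.inl f, rename Sum.inr g})
    (hdeg : ∀ m ∈ G.support, ((m.comapDomain Sum.inl Sum.inl_injective.injOn).sum fun _ e => e) < f.totalDegree ∧
      ((m.comapDomain Sum.inr Sum.inr_injective.injOn).sum fun _ e => e) < g.totalDegree) : G = 0 := by
  by_contra hne
  obtain ⟨m, hm⟩ := support_nonempty.2 hne
  obtain ⟨φ, hφ, hφa, hφb⟩ := exists_functional hf (hdeg m hm).1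
  obtain ⟨ψ, hψ, hψa, hψb⟩ := exists_functional hg (hdeg m hm).2
  have h0 := pair_eq_zero_of_mem φ ψ hφ hψ hG
  rw [G.as_sum, map_sum, Finset.sum_eq_single m] at h0
  · rw [show monomial m (G.coeff m) = G.coeff m • (monomial m 1 : MvPolynomial (σ ⊕ τ) k) by
      rw [smul_monomial, smul_eq_mul, mul_one], map_smul, pair_monomial, hφa, hψa, one_mul, smul_eq_mul, mul_one] at h0
    exact mem_support_iff.1 hm h0
  · intro m' hm' hne'
    rw [show monomial m' (G.coeff m') = G.coeff m' • (monomial m' 1 : MvPolynomial (σ ⊕ τ) k) by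
      rw [smul_monomial, smul_eq_mul, mul_one], map_smul, pair_monomial]
    by_cases h : m'.comapDomain Sum.inl Sum.inl_injective.injOn = m.comapDomain Sum.inl Sum.inl_injective.injOn
    · rw [hψb _ (fun h' => hne' (Finsupp.ext fun i => by
        rcases i with i | i
        · exact DFunLike.congr_fun h i
        · exact DFunLike.congr_fun h' i)) (hdeg m' hm').2, mul_zero, smul_zero]
    · rw [hφb _ h (hdeg m' hm').1, zero_mul, smul_zero]
  · exact fun h => absurd hm h

section additive

variable {n : ℕ} (f : MvPolynomial (Fin n) k)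

/-- `f(x + y)`. -/
def dbl : MvPolynomial (Fin n ⊕ Fin n) k :=
  aeval (fun i : Fin n => (X (Sum.inl i) + X (Sum.inr i) : MvPolynomial (Fin n ⊕ Fin n) k)) f

theorem totalDegree_dbl_le : (dbl f).totalDegree ≤ f.totalDegree := by
  rw [dbl, f.as_sum, map_sum]
  refine (totalDegree_finset_sum _ _).trans (Finset.sup_le fun m hm => ?_)
  rw [← f.as_sum, aeval_monomial]
  refine (totalDegree_mul _ _).trans ?_
  rw [show (algebraMap k (MvPolynomial (Fin n ⊕ Fin n) k)) (coeff m f) = C (coeff m f) from rfl, totalDegree_C, zero_add]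
  refine le_trans ?_ (le_totalDegree hm)
  refine (totalDegree_finset_prod _ _).trans (Finset.sum_le_sum fun i _ => ?_)
  refine (totalDegree_pow _ _).trans (le_of_le_of_eq (Nat.mul_le_mul_left _ ?_) (mul_one _))
  exact (totalDegree_add _ _).trans (max_le (totalDegree_X _).le (totalDegree_X _).le)

theorem killCompl_dbl (s : Fin n → Fin n ⊕ Fin n) (hs : Function.Injective s)
    (h : ∀ i, s i = Sum.inl i ∨ s i = Sum.inr i) :
    killCompl hs (dbl f) = f := by
  rw [dbl, ← AlgHom.comp_apply, comp_aeval]
  conv_rhs => rw [← aeval_X_left_apply f]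
  congr 2
  funext i
  rw [map_add]
  have key : ∀ j : Fin n ⊕ Fin n, (killCompl hs (X j) : MvPolynomial (Fin n) k) =
      if j = s i then X i else killCompl hs (X j) := by
    intro j
    split_ifs with hj
    · rw [hj, ← rename_X, killCompl_rename_app]
    · rfl
  have zero : ∀ j : Fin n ⊕ Fin n, (j = Sum.inl i ∨ j = Sum.inr i) → j ≠ s i →
      (killCompl hs (X j) : MvPolynomial (Fin n) k) = 0 := by
    intro j hj hne
    rw [killCompl, aeval_X, dif_neg]
    rintro ⟨i', rfl⟩
    refine hne (congrArg s ?_)
    rcases h i' with h' | h' <;> rcases hj with hj | hj <;> rw [h'] at hj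
    · exact Sum.inl_injective hj
    · exact absurd hj (by simp)
    · exact absurd hj (by simp)
    · exact Sum.inr_injective hj
  rcases h i with h' | h'
  · rw [key (Sum.inl i), if_pos h'.symm, zero _ (Or.inr rfl) (by rw [h']; simp), add_zero]
  · rw [key (Sum.inr i), if_pos h'.symm, zero _ (Or.inl rfl) (by rw [h']; simp), zero_add]

/-- If `f(x+y)` lies in the ideal of `f(x)` and `f(y)`, then `f` is additive. -/
theorem dbl_eq_of_mem (hf : f ≠ 0) (h0 : constantCoeff f = 0)
    (h : dbl f ∈ Ideal.span {rename Sum.inl f, rename Sum.inr f}) :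
    dbl f = rename Sum.inl f + rename Sum.inr f := by
  classical
  refine sub_eq_zero.1 (eq_zero_of_mem_span hf hf ?_ fun m hm => ?_)
  · exact Ideal.sub_mem _ h (Ideal.add_mem _ (Ideal.subset_span (by simp)) (Ideal.subset_span (by simp)))
  have hmle : (m.sum fun _ e => e) ≤ f.totalDegree := by
    refine (le_totalDegree hm).trans ((totalDegree_sub _ _).trans (max_le (totalDegree_dbl_le f) ?_))
    exact (totalDegree_add _ _).trans (max_le (totalDegree_rename_le _ _) (totalDegree_rename_le _ _))
  rw [mem_support_iff, coeff_sub, coeff_add] at hm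
  have hsum : (m.sum fun _ e => e) = ((m.comapDomain Sum.inl Sum.inl_injective.injOn).sum fun _ e => e) +
      ((m.comapDomain Sum.inr Sum.inr_injective.injOn).sum fun _ e => e) := by
    rw [Finsupp.sum_fintype _ _ (fun _ => rfl), Finsupp.sum_fintype _ _ (fun _ => rfl),
      Finsupp.sum_fintype _ _ (fun _ => rfl), Fintype.sum_sum_type]
    rfl
  have hl : (m.comapDomain Sum.inr Sum.inr_injective.injOn) ≠ 0 := by
    intro hz
    have e : (m.comapDomain Sum.inl Sum.inl_injective.injOn).mapDomain Sum.inl = m := by
      ext (i | i)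
      · rw [Finsupp.mapDomain_apply Sum.inl_injective]; rfl
      · rw [Finsupp.mapDomain_notin_range _ _ (by simp)]; exact (DFunLike.congr_fun hz i).symm
    rw [← e, ← coeff_killCompl Sum.inl_injective, killCompl_dbl f _ _ (fun i => Or.inl rfl),
      coeff_rename_mapDomain _ Sum.inl_injective, coeff_rename_eq_zero _ _ _ ?_, add_zero, sub_self] at hm
    · exact hm rfl
    · intro u hu
      have hu0 : u = 0 := by
        ext i
        have := DFunLike.congr_fun hu (Sum.inr i)
        rwa [Finsupp.mapDomain_apply Sum.inr_injective, Finsupp.mapDomain_notin_range _ _ (by simp)] at this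
      rw [hu0]
      exact h0
  have hr : (m.comapDomain Sum.inl Sum.inl_injective.injOn) ≠ 0 := by
    intro hz
    have e : (m.comapDomain Sum.inr Sum.inr_injective.injOn).mapDomain Sum.inr = m := by
      ext (i | i)
      · rw [Finsupp.mapDomain_notin_range _ _ (by simp)]; exact (DFunLike.congr_fun hz i).symm
      · rw [Finsupp.mapDomain_apply Sum.inr_injective]; rfl
    rw [← e, ← coeff_killCompl Sum.inr_injective, killCompl_dbl f _ _ (fun i => Or.inr rfl),
      coeff_rename_mapDomain _ Sum.inr_injective, coeff_rename_eq_zero _ _ _ ?_, zero_add, sub_self] at hm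
    · exact hm rfl
    · intro u hu
      have hu0 : u = 0 := by
        ext i
        have := DFunLike.congr_fun hu (Sum.inl i)
        rwa [Finsupp.mapDomain_apply Sum.inl_injective, Finsupp.mapDomain_notin_range _ _ (by simp)] at this
      rw [hu0]
      exact h0
  have hpos : ∀ a : Fin n →₀ ℕ, a ≠ 0 → 0 < (a.sum fun _ e => e) := by
    intro a ha
    obtain ⟨i, hi⟩ := Finsupp.ne_iff.1 ha
    rw [Finsupp.sum_fintype _ _ (fun _ => rfl)]
    exact lt_of_lt_of_le (Nat.pos_of_ne_zero hi) (Finset.single_le_sum (fun j _ => Nat.zero_le _) (Finset.mem_univ i))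
  have := hpos _ hl
  have := hpos _ hr
  constructor <;> omega

/-- An additive polynomial has monomials in one variable only. -/
theorem single_of_additive (h : dbl f = rename Sum.inl f + rename Sum.inr f) {m : Fin n →₀ ℕ}
    (hm : m ∈ f.support) {i : Fin n} (hi : m i ≠ 0) : m = Finsupp.single i (m i) := by
  classical
  by_contra hne
  have hex : ∃ j, j ≠ i ∧ m j ≠ 0 := by
    by_contra hcon
    push Not at hcon
    refine hne (Finsupp.ext fun j => ?_)
    by_cases hj : j = i
    · rw [hj, Finsupp.single_eq_same]
    · rw [hcon j hj, Finsupp.single_eq_of_ne hj]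
  obtain ⟨j, hji, hj⟩ := hex
  let s : Fin n → Fin n ⊕ Fin n := fun l => if l = i then Sum.inl l else Sum.inr l
  have hs : Function.Injective s := by
    intro a b hab
    simp only [s] at hab
    split_ifs at hab with ha hb
    · exact Sum.inl_injective hab
    · exact Sum.inr_injective hab
  have h' := congrArg (fun P => coeff m (killCompl hs P)) h
  simp only [killCompl_dbl f s hs (fun l => by simp only [s]; split_ifs <;> simp), coeff_killCompl,
    coeff_add] at h'
  rw [coeff_rename_eq_zero _ _ _ (fun u hu => ?_), coeff_rename_eq_zero _ _ _ (fun u hu => ?_), add_zero] at h'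
  · exact mem_support_iff.1 hm h'
  · have := DFunLike.congr_fun hu (s i)
    rw [Finsupp.mapDomain_apply hs, show s i = Sum.inl i from if_pos rfl,
      Finsupp.mapDomain_notin_range _ _ (by simp)] at this
    exact absurd this.symm hi
  · have := DFunLike.congr_fun hu (s j)
    rw [Finsupp.mapDomain_apply hs, show s j = Sum.inr j from if_neg hji,
      Finsupp.mapDomain_notin_range _ _ (by simp)] at this
    exact absurd this.symm hj

/-- The exponents of an additive polynomial are powers of the characteristic. -/
theorem choose_eq_zero_of_additive (h : dbl f = rename Sum.inl f + rename Sum.inr f) {i : Fin n} {e r : ℕ}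
    (he : Finsupp.single i e ∈ f.support) (hr : 0 < r) (hre : r < e) : (e.choose r : k) = 0 := by
  classical
  let ev : Fin n → Polynomial k := fun j => if j = i then Polynomial.X else 0
  let P : Polynomial k := aeval ev f
  have hP : Polynomial.taylor (Polynomial.X : Polynomial k) (P.map Polynomial.C) =
      P.map Polynomial.C + Polynomial.C P := by
    have h' := congrArg (aeval (Sum.elim (fun j => if j = i then (Polynomial.X : Polynomial (Polynomial k)) else 0)
      (fun j => if j = i then Polynomial.C (Polynomial.X : Polynomial k) else 0))) h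
    rw [map_add, aeval_rename, aeval_rename, Sum.elim_comp_inl, Sum.elim_comp_inr, dbl,
      ← AlgHom.comp_apply (φ₁ := aeval _), comp_aeval] at h'
    simp only [map_add, aeval_X, Sum.elim_inl, Sum.elim_inr] at h'
    have key : ∀ (q : Polynomial (Polynomial k)), aeval (fun j => if j = i then q else 0) f =
        (P.map Polynomial.C).comp q := by
      intro q
      suffices hg : ∀ g : MvPolynomial (Fin n) k, aeval (fun j => if j = i then q else 0) g =
          ((aeval ev g).map Polynomial.C).comp q from hg f
      intro g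
      induction g using MvPolynomial.induction_on with
      | C a => simp only [algHom_C, ← Polynomial.C_eq_algebraMap, Polynomial.map_C, Polynomial.C_comp]; rfl
      | add a b ha hb => rw [map_add, map_add, Polynomial.map_add, Polynomial.add_comp, ha, hb]
      | mul_X a j ha =>
        rw [map_mul, map_mul, Polynomial.map_mul, Polynomial.mul_comp, ha, aeval_X, aeval_X]
        simp only [ev]
        split_ifs
        · rw [Polynomial.map_X, Polynomial.X_comp]
        · rw [Polynomial.map_zero, Polynomial.zero_comp]
    have e1 : (fun j => (if j = i then (Polynomial.X : Polynomial (Polynomial k)) else 0) +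
        (if j = i then Polynomial.C (Polynomial.X : Polynomial k) else 0)) =
        fun j => if j = i then Polynomial.X + Polynomial.C Polynomial.X else 0 := by
      funext j
      split_ifs <;> simp
    rw [e1, key, key, key, Polynomial.comp_X] at h'
    rw [Polynomial.taylor_apply, h']
    congr 1
    rw [Polynomial.comp_C, Polynomial.eval_map, show Polynomial.eval₂ Polynomial.C Polynomial.X P = P from
      Polynomial.eval₂_C_X]
  have hc := congrArg (fun Q : Polynomial (Polynomial k) => (Q.coeff r).coeff (e - r)) hP
  simp only [Polynomial.taylor_coeff, Polynomial.coeff_add, Polynomial.coeff_map, Polynomial.coeff_C_of_ne_zero hr.ne',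
    add_zero, Polynomial.coeff_C_of_ne_zero (show e - r ≠ 0 by omega)] at hc
  have hder : (Polynomial.hasseDeriv r (P.map Polynomial.C)) = (Polynomial.hasseDeriv r P).map Polynomial.C := by
    ext1 l
    simp only [Polynomial.hasseDeriv_coeff, Polynomial.coeff_map, map_mul, map_natCast]
  rw [hder, Polynomial.eval_map, Polynomial.eval₂_C_X, Polynomial.hasseDeriv_coeff,
    show e - r + r = e by omega] at hc
  have hPe : P.coeff e = coeff (Finsupp.single i e) f := by
    have he0 : e ≠ 0 := by omega
    simp only [P]
    conv_lhs => rw [f.as_sum, map_sum, Polynomial.finsetSum_coeff]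
    rw [Finset.sum_eq_single (Finsupp.single i e)]
    · rw [aeval_monomial, Finsupp.prod_single_index (h := fun j l => ev j ^ l) (pow_zero _)]
      simp [ev, ← Polynomial.C_eq_algebraMap]
    · intro m hm hne
      rw [aeval_monomial, ← Polynomial.C_eq_algebraMap, Polynomial.coeff_C_mul]
      by_cases hall : ∀ j, j ≠ i → m j = 0
      · have hm' : m = Finsupp.single i (m i) := by
          ext j
          by_cases hj : j = i
          · rw [hj, Finsupp.single_eq_same]
          · rw [hall j hj, Finsupp.single_eq_of_ne hj]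
        rw [hm', Finsupp.prod_single_index (h := fun j l => ev j ^ l) (pow_zero _)]
        simp only [ev, if_true, Polynomial.coeff_X_pow]
        rw [if_neg (fun hh => hne (by rw [hm', ← hh])), mul_zero]
      · push Not at hall
        obtain ⟨j, hji, hj⟩ := hall
        rw [Finsupp.prod, Finset.prod_eq_zero (Finsupp.mem_support_iff.2 hj) (by simp [ev, hji, zero_pow hj]),
          Polynomial.coeff_zero, mul_zero]
    · exact fun h => absurd he h
  rw [hPe] at hc
  exact (mul_eq_zero.1 hc).resolve_right (mem_support_iff.1 he)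

/-- A number all of whose proper binomial coefficients vanish in characteristic `p` is a power of `p`. -/
theorem exists_eq_pow_of_choose (p : ℕ) [Fact p.Prime] [CharP k p] {e : ℕ} (he : e ≠ 0)
    (h : ∀ r, 0 < r → r < e → (e.choose r : k) = 0) : ∃ j, e = p ^ j := by
  obtain ⟨v, q, hq, rfl⟩ := Nat.exists_eq_pow_mul_and_not_dvd he p (Fact.out : p.Prime).ne_one
  refine ⟨v, ?_⟩
  have hpv : 0 < p ^ v := pow_pos (Fact.out : p.Prime).pos v
  have hq0 : q ≠ 0 := fun h0 => hq (h0 ▸ dvd_zero p)
  by_contra hne
  have hq1 : 1 < q := by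
    rcases Nat.lt_or_ge 1 q with h1 | h1
    · exact h1
    · exact absurd (show p ^ v * q = p ^ v by rw [show q = 1 by omega, mul_one]) hne
  have h1 := h (p ^ v) hpv (lt_mul_of_one_lt_right hpv hq1)
  have h2 : ((Polynomial.X + 1 : Polynomial k) ^ (p ^ v * q)).coeff (p ^ v) = (q : k) := by
    rw [pow_mul, add_pow_char_pow, one_pow, show (Polynomial.X ^ p ^ v + 1 : Polynomial k) ^ q =
      Polynomial.expand k (p ^ v) ((Polynomial.X + 1) ^ q) by simp]
    conv_lhs => arg 2; rw [← mul_one (p ^ v)]
    rw [Polynomial.coeff_expand_mul' hpv, Polynomial.coeff_X_add_one_pow, Nat.choose_one_right]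
  rw [Polynomial.coeff_X_add_one_pow, h1] at h2
  exact hq ((CharP.cast_eq_zero_iff k p q).1 h2.symm)

/-- A hypersurface subgroup is cut out by a `p`-polynomial. -/
theorem isPPolynomial_of_mem (p : ℕ) [Fact p.Prime] [CharP k p] (hf : f ≠ 0) (h0 : constantCoeff f = 0)
    (h : dbl f ∈ Ideal.span {rename Sum.inl f, rename Sum.inr f}) :
    ∀ m ∈ f.support, ∃ (i : Fin n) (j : ℕ), m = Finsupp.single i (p ^ j) := by
  intro m hm
  have hm0 : m ≠ 0 := fun h' => mem_support_iff.1 hm (h' ▸ h0)
  obtain ⟨i, hi⟩ := Finsupp.ne_iff.1 hm0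
  have hadd := dbl_eq_of_mem f hf h0 h
  have hsingle := single_of_additive f hadd hm hi
  obtain ⟨j, hj⟩ := exists_eq_pow_of_choose (k := k) p hi fun r hr hre =>
    choose_eq_zero_of_additive f hadd (hsingle ▸ hm) hr hre
  exact ⟨i, j, by rw [← hj]; exact hsingle⟩

end additive

end Groth.Agent.PPoly21
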